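import Groth.Agent.Lib.Helper22.NormalUnit.Irr
import Groth.Agent.Lib.Helper24.EtaleNormal
import Groth.Agent.Lib.Helper22.EtLoc.ConstHom
import Groth.Agent.Lib.Helper22.EtLoc.Basic
import Groth.Agent.Lib.Helper22.EtLoc.Clopen

/-!
# The unit `M_X ⟶ j_* j^* M_X` for a dense open of a normal integral scheme (helper22)
-/

set_option autoImplicit false
set_option linter.style.haveILetI false
set_option linter.unusedSectionVars false
universe u
open CategoryTheory CategoryTheory.Limits AlgebraicGeometry Opposite TopologicalSpace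

namespace Groth.Agent.Lib.Helper22.NormalUnit

open Groth.Agent.Lib.Helper22.EtStalk Groth.Agent.Lib.Helper22.CechU.Etale
  Groth.Agent.Lib.Helper22.EtLoc Groth.Agent.Lib.Helper22.EtLoc.ConstHom
  Groth.Agent.Lib.Helper22.EtLoc.Clopen

noncomputable section

variable {X : Scheme.{u}} (M : AddCommGrpCat.{u + 1})

/-- A morphism of étale `X`-schemes is étale. -/
lemma etale_left'' {A B : X.Etale} (g : B ⟶ A) : Etale (g.left : B.left ⟶ A.left) := by
  have h1 : Etale (A.hom : A.left ⟶ X) := A.prop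
  have h2 : Etale ((g.left : B.left ⟶ A.left) ≫ (A.hom : A.left ⟶ X)) := by
    have e : (g.left : B.left ⟶ A.left) ≫ (A.hom : A.left ⟶ X) = B.hom := Over.w g.hom
    rw [e]
    exact B.prop
  exact MorphismProperty.of_postcomp (W := @Etale) (W' := @Etale) _ _ h1 h2

section Germs

variable {Ω : Type u} [Field Ω] [IsSepClosed Ω] (ξ : Spec (CommRingCat.of Ω) ⟶ X)

lemma exists_germ_eq_tsec (T : X.Etale) (x : (Scheme.pointSmallEtale ξ).fiber.obj T)
    (s : (cst (U := X) M).obj.obj (op T)) :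
    ∃ m : M, germ ξ (cst M) T x s = germ ξ (cst M) T x (tsec M T m) := by
  refine ⟨(ConstStalk.stalkConstIso ξ M).hom (germ ξ (cst M) T x s), ?_⟩
  rw [← stalkConstIso_inv_apply ξ M T x]
  exact (Iso.hom_inv_id_apply (ConstStalk.stalkConstIso ξ M) _).symm

lemma eq_of_germ_tsec_eq (T : X.Etale) (x : (Scheme.pointSmallEtale ξ).fiber.obj T) (m m' : M)
    (h : germ ξ (cst M) T x (tsec M T m) = germ ξ (cst M) T x (tsec M T m')) : m = m' := by
  rw [← stalkConstIso_inv_apply ξ M T x, ← stalkConstIso_inv_apply ξ M T x] at h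
  have h2 := congrArg (ConstStalk.stalkConstIso ξ M).hom h
  rwa [Iso.inv_hom_id_apply, Iso.inv_hom_id_apply] at h2

end Germs

lemma eq_of_tsec_eq (T : X.Etale) (p : T.left) (m m' : M) (h : tsec M T m = tsec M T m') :
    m = m' := by
  obtain ⟨Ω, _, _, ξ, x, -⟩ := exists_geomPoint T p
  exact eq_of_germ_tsec_eq M ξ T x m m' (by rw [h])

set_option backward.isDefEq.respectTransparency.types false in
/-- Sections of a constant sheaf over a connected étale scheme are constant. -/
theorem exists_eq_tsec (T : X.Etale) [PreconnectedSpace T.left] (p₀ : T.left)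
    (t : (cst (U := X) M).obj.obj (op T)) : ∃ m : M, t = tsec M T m := by
  classical
  let O : M → Set T.left := fun m => {p | ∃ (T' : X.Etale) (g : T' ⟶ T),
    p ∈ Set.range g.left ∧ (cst M).obj.map g.op t = tsec M T' m}
  have hO : ∀ m, IsOpen (O m) := by
    intro m
    rw [isOpen_iff_forall_mem_open]
    rintro p ⟨T', g, hp, hg⟩
    refine ⟨Set.range g.left, ?_, ?_, hp⟩
    · intro q hq
      exact ⟨T', g, hq, hg⟩
    · have : Etale (g.left : T'.left ⟶ T.left) := etale_left'' g
      exact (g.left : T'.left ⟶ T.left).isOpenMap.isOpen_range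
  have hcov : ∀ p, ∃ m, p ∈ O m := by
    intro p
    obtain ⟨Ω, _, _, ξ, x, hx⟩ := exists_geomPoint T p
    obtain ⟨m, hm⟩ := exists_germ_eq_tsec M ξ T x t
    obtain ⟨T', g, x', hx', hg⟩ :=
      ((Scheme.pointSmallEtale ξ).toPresheafFiber_eq_iff' T x t (tsec M T m)).1 hm
    refine ⟨m, T', g, ⟨x'.left (default : Spec (CommRingCat.of Ω)), ?_⟩, ?_⟩
    · rw [← hx, ← hx']
      rfl
    · exact hg.trans (tsec_map M g m)
  have hdis : ∀ m m', (O m ∩ O m').Nonempty → m = m' := by
    rintro m m' ⟨p, ⟨T₁, g₁, ⟨p₁, hp₁⟩, h₁⟩, ⟨T₂, g₂, ⟨p₂, hp₂⟩, h₂⟩⟩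
    let gl₁ : T₁.left ⟶ T.left := g₁.left
    let gl₂ : T₂.left ⟶ T.left := g₂.left
    obtain ⟨z, hz1, hz2⟩ := Scheme.Pullback.exists_preimage_pullback (f := gl₁) (g := gl₂) p₁ p₂
      (hp₁.trans hp₂.symm)
    have e1 : Etale gl₂ := etale_left'' g₂
    have e2 : Etale (T₁.hom : T₁.left ⟶ X) := T₁.prop
    let Z : X.Etale := MorphismProperty.Over.mk ⊤ (pullback.fst gl₁ gl₂ ≫ (T₁.hom : T₁.left ⟶ X))
      (inferInstance : Etale (pullback.fst gl₁ gl₂ ≫ (T₁.hom : T₁.left ⟶ X)))
    let a : Z ⟶ T₁ := MorphismProperty.Over.homMk (pullback.fst gl₁ gl₂) rfl trivial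
    have hw2 : pullback.snd gl₁ gl₂ ≫ (T₂.hom : T₂.left ⟶ X) =
        pullback.fst gl₁ gl₂ ≫ (T₁.hom : T₁.left ⟶ X) := by
      have k1 : gl₁ ≫ (T.hom : T.left ⟶ X) = T₁.hom := Over.w g₁.hom
      have k2 : gl₂ ≫ (T.hom : T.left ⟶ X) = T₂.hom := Over.w g₂.hom
      rw [← k1, ← k2, ← Category.assoc, ← Category.assoc, pullback.condition]
    let b : Z ⟶ T₂ := MorphismProperty.Over.homMk (pullback.snd gl₁ gl₂) hw2 trivial
    have hab : a ≫ g₁ = b ≫ g₂ := by
      apply MorphismProperty.Over.Hom.ext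
      exact pullback.condition
    have k : tsec M Z m = tsec M Z m' := by
      rw [← tsec_map M a m, ← h₁, ← tsec_map M b m', ← h₂, ← Functor.map_comp_apply,
        ← Functor.map_comp_apply, ← op_comp, ← op_comp, hab]
    exact eq_of_tsec_eq M Z z m m' k
  obtain ⟨m₀, hm₀⟩ := hcov p₀
  have hcompl : (O m₀)ᶜ = ⋃ m ∈ {m | m ≠ m₀}, O m := by
    ext p
    simp only [Set.mem_compl_iff, Set.mem_iUnion, Set.mem_ofPred_eq, exists_prop]
    constructor
    · intro hp
      obtain ⟨m, hm⟩ := hcov p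
      refine ⟨m, ?_, hm⟩
      rintro rfl
      exact hp hm
    · rintro ⟨m, hne, hm⟩ hp
      exact hne (hdis m m₀ ⟨p, hm, hp⟩)
  have hclosed : IsClosed (O m₀) := by
    rw [← isOpen_compl_iff, hcompl]
    exact isOpen_biUnion fun m _ => hO m
  have huniv : O m₀ = Set.univ := IsClopen.eq_univ ⟨hclosed, hO m₀⟩ ⟨p₀, hm₀⟩
  refine ⟨m₀, ?_⟩
  apply eq_of_locally_eq
  intro y
  have hy : y ∈ O m₀ := huniv ▸ Set.mem_univ y
  obtain ⟨T', g, hy', hg⟩ := hy
  exact ⟨T', g, hy', hg.trans (tsec_map M g m₀).symm⟩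

section Open

variable [IsIntegral X] (U : X.Opens)

/-- The preimage of `U` in an étale `X`-scheme, as an étale `X`-scheme. -/
abbrev overU (W : X.Etale) : X.Etale := (pj U.ι).obj ((EtCoh.bc U.ι).obj W)

/-- The inclusion of the preimage of `U`. -/
abbrev cU (W : X.Etale) : overU U W ⟶ W := (pjAdj U.ι).counit.app W

set_option backward.isDefEq.respectTransparency.types false in
lemma cU_left (W : X.Etale) : (cU U W).left = pullback.fst W.hom U.ι := by
  change ((pjAdj U.ι).counit.app W).left = _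
  simp [pjAdj]

lemma cU_naturality {W' W : X.Etale} (g : W' ⟶ W) :
    (pj U.ι).map ((EtCoh.bc U.ι).map g) ≫ cU U W = cU U W' ≫ g :=
  (pjAdj U.ι).counit.naturality g

set_option backward.isDefEq.respectTransparency.types false in
include U in
/-- Density: a nonempty étale `X`-scheme has a point over the nonempty open `U`. -/
lemma exists_point_overU (hU : (U : Set X).Nonempty) (W : X.Etale) (N : W.left.Opens) (w : W.left)
    (hw : w ∈ N) : ∃ q : (overU U W).left, (cU U W).left q ∈ N := by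
  let wh : W.left ⟶ X := W.hom
  have hWet : Etale wh := W.prop
  have hopen : IsOpen (wh '' (N : Set W.left)) := wh.isOpenMap _ N.isOpen
  obtain ⟨x, ⟨w', hw'N, hw'⟩, hxU⟩ := nonempty_preirreducible_inter hopen U.isOpen
    ⟨_, ⟨w, hw, rfl⟩⟩ hU
  let u' : (U : Scheme.{u}) := ⟨x, hxU⟩
  have hu' : wh w' = U.ι u' := hw'
  obtain ⟨q, hq1, -⟩ := Scheme.Pullback.exists_preimage_pullback (f := wh)
    (g := U.ι) w' u' hu'
  refine ⟨q, ?_⟩
  rw [cU_left]
  change pullback.fst W.hom U.ι q ∈ N
  rw [hq1]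
  exact hw'N

set_option backward.isDefEq.respectTransparency.types false in
/-- Injectivity of restriction to the preimage of `U`. -/
theorem res_eq_zero (hU : (U : Set X).Nonempty) (W : X.Etale)
    (s : (cst (U := X) M).obj.obj (op W)) (hs : (cst M).obj.map (cU U W).op s = 0) : s = 0 := by
  apply eq_zero_of_germs
  intro Ω _ _ ξ x
  obtain ⟨m, hm⟩ := exists_germ_eq_tsec M ξ W x s
  obtain ⟨W', g, x', hx', hg⟩ :=
    ((Scheme.pointSmallEtale ξ).toPresheafFiber_eq_iff' W x s (tsec M W m)).1 hm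
  have h1 : (cst M).obj.map (cU U W').op ((cst M).obj.map g.op s) = 0 := by
    rw [← Functor.map_comp_apply, ← op_comp, ← cU_naturality, op_comp, Functor.map_comp_apply, hs,
      map_zero]
  have hg' : (cst M).obj.map g.op s = tsec M W' m := hg.trans (tsec_map M g m)
  rw [hg', tsec_map] at h1
  obtain ⟨q, -⟩ := exists_point_overU U hU W' ⊤ (x'.left (default : Spec (CommRingCat.of Ω)))
    trivial
  have hm0 : m = 0 := eq_of_tsec_eq M (overU U W') q m 0 (h1.trans (map_zero _).symm)
  rw [hm, hm0, map_zero, map_zero]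

variable (hN : ∀ x : X, IsIntegrallyClosed (X.presheaf.stalk x))

set_option backward.isDefEq.respectTransparency.types false in
include hN in
/-- Local surjectivity of restriction to the preimage of `U`. -/
theorem exists_local_ext (hU : (U : Set X).Nonempty) (W : X.Etale)
    (t : (cst (U := X) M).obj.obj (op (overU U W))) (w : W.left) :
    ∃ (N : W.left.Opens), w ∈ N ∧ ∃ s' : (cst (U := X) M).obj.obj (op (openSub W N)),
      (cst M).obj.map (cU U (openSub W N)).op s' =
        (cst M).obj.map ((pj U.ι).map ((EtCoh.bc U.ι).map (openSubι W N))).op t := by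
  let wh : W.left ⟶ X := W.hom
  have hWet : Etale wh := W.prop
  have hdom := (Groth.Agent.Lib.Helper24.ENorm.stalk_of_etale hN wh w).1
  obtain ⟨N, hwN, hNirr⟩ := exists_irreducible_open wh w hdom
  refine ⟨N, hwN, ?_⟩
  let W' : X.Etale := openSub W N
  let T : X.Etale := overU U W'
  -- `T` is connected
  let wh' : W'.left ⟶ X := W'.hom
  let cl : T.left ⟶ (N : Scheme.{u}) := (cU U W').left
  haveI hcl : IsOpenImmersion cl := by
    change IsOpenImmersion (cU U W').left
    rw [cU_left]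
    exact inferInstanceAs (IsOpenImmersion (pullback.fst wh' U.ι))
  let e : T.left ⟶ W.left := cl ≫ N.ι
  have he : IsOpenImmersion e := inferInstanceAs (IsOpenImmersion (cl ≫ N.ι))
  have hsub : Set.range e ⊆ (N : Set W.left) := by
    rintro _ ⟨q, rfl⟩
    exact (cl q).2
  have hpre : IsPreirreducible (Set.range e) :=
    hNirr.isPreirreducible.open_subset e.isOpenEmbedding.isOpen_range hsub
  have hconn : _root_.IsPreconnected (Set.univ : Set T.left) := by
    rw [← e.isOpenEmbedding.toIsInducing.isPreconnected_image, Set.image_univ]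
    exact hpre.isPreconnected
  haveI : PreconnectedSpace T.left := ⟨hconn⟩
  obtain ⟨q, -⟩ := exists_point_overU U hU W' ⊤ (⟨w, hwN⟩ : (N : Scheme.{u})) trivial
  obtain ⟨m, hm⟩ := exists_eq_tsec M T q
    ((cst M).obj.map ((pj U.ι).map ((EtCoh.bc U.ι).map (openSubι W N))).op t)
  refine ⟨tsec M W' m, ?_⟩
  rw [hm, tsec_map]

set_option backward.isDefEq.respectTransparency.types false in
include hN in
/-- **The unit `M ⟶ j_* j^* M` is an isomorphism** for a nonempty open of a normal integral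
scheme. -/
theorem isIso_unit_cst (hU : (U : Set X).Nonempty) :
    IsIso ((EtCoh.pullPushAdj U.ι).unit.app (cst (U := X) M)) := by
  let ψ : cst (U := X) M ⟶ (EtCoh.push U.ι).obj ((res U.ι).obj (cst M)) :=
    (resPushAdj U.ι).unit.app (cst M)
  have hψ : ∀ (W : X.Etale) (s : (cst (U := X) M).obj.obj (op W)),
      ψ.hom.app (op W) s = (cst M).obj.map (cU U W).op s := fun W s => rfl
  have hmono : Mono ψ := by
    have : ∀ W : (X.Etale)ᵒᵖ, Mono (ψ.hom.app W) := by
      intro W
      rw [AddCommGrpCat.mono_iff_injective, injective_iff_map_eq_zero]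
      intro s hs
      exact res_eq_zero M U hU W.unop s hs
    have : Mono ψ.hom := NatTrans.mono_of_mono_app _
    exact Sheaf.Hom.mono_of_presheaf_mono _ _ ψ
  have hls : Sheaf.IsLocallySurjective ψ := by
    constructor
    intro W t
    rw [mem_smallEtaleTopology_iff]
    intro w
    obtain ⟨N, hwN, s', hs'⟩ := exists_local_ext M U hN hU W t w
    exact ⟨openSub W N, openSubι W N, ⟨w, hwN⟩, ⟨s', hs'⟩, rfl⟩
  have hepi : Epi ψ := (Sheaf.isLocallySurjective_iff_epi' _ ψ).1 hls
  have hiso : IsIso ψ := isIso_of_mono_of_epi ψ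
  have h := Adjunction.unit_leftAdjointUniq_hom_app (EtCoh.pullPushAdj U.ι) (resPushAdj U.ι)
    (cst (U := X) M)
  have h2 : (EtCoh.pullPushAdj U.ι).unit.app (cst (U := X) M) =
      (resPushAdj U.ι).unit.app (cst M) ≫
        (EtCoh.push U.ι).map ((pullIsoRes U.ι).inv.app (cst M)) := by
    rw [← h, Category.assoc, ← Functor.map_comp]
    have : (Adjunction.leftAdjointUniq (EtCoh.pullPushAdj U.ι) (resPushAdj U.ι)).hom.app (cst M) ≫
        (pullIsoRes U.ι).inv.app (cst M) = 𝟙 _ := (pullIsoRes U.ι).hom_inv_id_app (cst M)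
    rw [this, CategoryTheory.Functor.map_id]
    exact (Category.comp_id _).symm
  rw [h2]
  have : IsIso ((resPushAdj U.ι).unit.app (cst (U := X) M)) := hiso
  infer_instance

end Open

end

end Groth.Agent.Lib.Helper22.NormalUnit
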