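import Groth.Agent.Lib.Helper22.NormalUnit.QcClosure
import Groth.Agent.Lib.Helper24.EtaleNormal
import Mathlib.AlgebraicGeometry.PullbackCarrier
import Mathlib.AlgebraicGeometry.Morphisms.Preimmersion

/-!
# Generizations of a point of a scheme étale over a normal scheme are directed (helper22)
-/

set_option autoImplicit false
universe u
open CategoryTheory CategoryTheory.Limits AlgebraicGeometry Opposite TopologicalSpace

namespace Groth.Agent.Lib.Helper22.NormalUnit

/-- Stalks of the spectrum of a normal domain are integrally closed. -/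
lemma isIntegrallyClosed_stalk_Spec (R : CommRingCat.{u}) [IsDomain R] [IsIntegrallyClosed R]
    (p : Spec R) : IsIntegrallyClosed ((Spec R).presheaf.stalk p) := by
  have h : IsLocalization.AtPrime ((Spec.structureSheaf R).presheaf.stalk p) p.asIdeal :=
    StructureSheaf.IsLocalization.to_stalk (R := R) p
  exact isIntegrallyClosed_of_isLocalization (R := R)
    ((Spec.structureSheaf R).presheaf.stalk p) p.asIdeal.primeCompl
    (Ideal.primeCompl_le_nonZeroDivisors _)

set_option backward.isDefEq.respectTransparency.types false in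
/-- Generizations of a point of a scheme étale over a normal scheme are directed. -/
theorem exists_common_generization_of_etale {X W : Scheme.{u}}
    (hX : ∀ x : X, IsDomain (X.presheaf.stalk x) ∧ IsIntegrallyClosed (X.presheaf.stalk x))
    (f : W ⟶ X) [Etale f] (w b b' : W) (hb : b ⤳ w) (hb' : b' ⤳ w) :
    ∃ ν : W, ν ⤳ b ∧ ν ⤳ b' := by
  have := (hX (f w)).1
  have := (hX (f w)).2
  let g : Spec (X.presheaf.stalk (f w)) ⟶ X := X.fromSpecStalk (f w)
  let pr : pullback f g ⟶ W := pullback.fst f g
  let f' : pullback f g ⟶ Spec (X.presheaf.stalk (f w)) := pullback.snd f g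
  have hX' : ∀ p : Spec (X.presheaf.stalk (f w)),
      IsIntegrallyClosed ((Spec (X.presheaf.stalk (f w))).presheaf.stalk p) :=
    fun p => isIntegrallyClosed_stalk_Spec _ p
  have hdom : ∀ y : ↥(pullback f g), IsDomain ((pullback f g).presheaf.stalk y) :=
    fun y => (Groth.Agent.Lib.Helper24.ENorm.stalk_of_etale hX' f' y).1
  have hrange : Set.range pr = f ⁻¹' {y | y ⤳ f w} := by
    rw [← Scheme.range_fromSpecStalk]
    exact Scheme.Pullback.range_fst f g
  have hw : w ∈ Set.range pr := by rw [hrange]; exact specializes_rfl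
  have hbr : b ∈ Set.range pr := by rw [hrange]; exact hb.map f.continuous
  have hbr' : b' ∈ Set.range pr := by rw [hrange]; exact hb'.map f.continuous
  obtain ⟨w₀, hw₀⟩ := hw
  obtain ⟨b₀, hb₀⟩ := hbr
  obtain ⟨b₀', hb₀'⟩ := hbr'
  have hind := pr.isEmbedding.toIsInducing
  rw [← hw₀, ← hb₀, hind.specializes_iff] at hb
  rw [← hw₀, ← hb₀', hind.specializes_iff] at hb'
  obtain ⟨ν, h1, h2⟩ := exists_common_generization w₀ (hdom w₀) b₀ b₀' hb hb'
  refine ⟨pr ν, ?_, ?_⟩
  · rw [← hb₀]; exact h1.map pr.continuous
  · rw [← hb₀']; exact h2.map pr.continuous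

end Groth.Agent.Lib.Helper22.NormalUnit
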