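import Groth.Agent.Lib.Helper22.NormalUnit.Main
import Groth.Agent.Lib.Helper22.NormalUnit.GenFibre

/-!
# The unit `M_X ⟶ g_* g^* M_X` for the generic point of a normal integral scheme (helper22)
-/

set_option autoImplicit false
set_option linter.style.haveILetI false
set_option linter.unusedSectionVars false
universe u
open CategoryTheory CategoryTheory.Limits AlgebraicGeometry Opposite TopologicalSpace

namespace Groth.Agent.Lib.Helper22.NormalUnit

open Groth.Agent.Lib.Helper22.EtStalk Groth.Agent.Lib.Helper22.CechU.Etale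
  Groth.Agent.Lib.Helper22.EtLoc Groth.Agent.Lib.Helper22.EtLoc.ConstHom
  Groth.Agent.Lib.Helper22.EtLoc.Clopen

noncomputable section

section General

variable {X Y : Scheme.{u}} (g : Y ⟶ X) (M : AddCommGrpCat.{u + 1})

/-- The unit of the constant sheaf adjunction is the constant section. -/
lemma constAdj_unit_apply (m : M) :
    ((EtCore.constAdj X).unit.app M) m = tsec M (EtCoh.top X) m := by
  rfl

/-- The comparison `M_X ⟶ g_* M_Y`. -/
def ψc : cst (U := X) M ⟶ (EtCoh.push g).obj (cst (U := Y) M) :=
  (EtCoh.pullPushAdj g).unit.app (cst M) ≫ (EtCoh.push g).map ((EtCore.pullConstIso g).hom.app M)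

lemma ψc_top (m : M) :
    (ψc g M).hom.app (op (EtCoh.top X)) (tsec M (EtCoh.top X) m) =
      tsec M ((EtCoh.bc g).obj (EtCoh.top X)) m := by
  have h := Adjunction.unit_leftAdjointUniq_hom_app
    (((EtCore.constAdj X).comp (EtCoh.pullPushAdj g)).ofNatIsoRight (EtCore.pushGsecIso g))
    (EtCore.constAdj Y) M
  have h2 := congrArg (fun φ => φ.hom m) h
  have h3 : (cst (U := Y) M).obj.map (EtCore.bcTopIso g).inv.op
      ((ψc g M).hom.app (op (EtCoh.top X)) (tsec M (EtCoh.top X) m)) =
        tsec M (EtCoh.top Y) m := by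
    have nat := ((EtCore.pullConstIso g).hom.app M).hom.naturality (EtCore.bcTopIso g).inv.op
    have nat2 := congrArg (fun φ => φ.hom (((EtCoh.pullPushAdj g).unit.app (cst M)).hom.app
      (op (EtCoh.top X)) (tsec M (EtCoh.top X) m))) nat
    exact nat2.symm.trans h2
  have h4 := congrArg ((cst (U := Y) M).obj.map (EtCore.bcTopIso g).hom.op) h3
  rw [tsec_map] at h4
  rw [← h4, ← Functor.map_comp_apply, ← op_comp, Iso.hom_inv_id, op_id,
    CategoryTheory.Functor.map_id]
  rfl

lemma ψc_tsec (W : X.Etale) (m : M) :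
    (ψc g M).hom.app (op W) (tsec M W m) = tsec M ((EtCoh.bc g).obj W) m := by
  let tW : W ⟶ EtCoh.top X := (EtCore.topIsTerminal X).from W
  have nat := (ψc g M).hom.naturality tW.op
  have nat2 := congrArg (fun φ => φ.hom (tsec M (EtCoh.top X) m)) nat
  have e1 : (cst (U := X) M).obj.map tW.op (tsec M (EtCoh.top X) m) = tsec M W m :=
    tsec_map M tW m
  have e2 : ((EtCoh.push g).obj (cst (U := Y) M)).obj.map tW.op
      (tsec M ((EtCoh.bc g).obj (EtCoh.top X)) m) = tsec M ((EtCoh.bc g).obj W) m :=
    tsec_map M ((EtCoh.bc g).map tW) m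
  rw [← e1, ← e2, ← ψc_top]
  exact nat2

end General

section Generic

variable {X : Scheme.{u}} [IsIntegral X] (M : AddCommGrpCat.{u + 1})

/-- The canonical morphism from the spectrum of the function field. -/
abbrev gη (X : Scheme.{u}) [IsIntegral X] : Spec (X.presheaf.stalk (genericPoint X)) ⟶ X :=
  X.fromSpecStalk (genericPoint X)

set_option backward.isDefEq.respectTransparency.types false in
/-- A nonempty étale `X`-scheme has a point over the generic point. -/
lemma exists_point_bc (W : X.Etale) (w : W.left) : Nonempty ((EtCoh.bc (gη X)).obj W).left := by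
  let wh : W.left ⟶ X := W.hom
  have hWet : Etale wh := W.prop
  obtain ⟨p, -, hp⟩ := exists_over_generic wh ⊤ w trivial
  have hp' : wh p = (gη X) (IsLocalRing.closedPoint _) := by
    rw [hp]
    exact (Scheme.fromSpecStalk_closedPoint (X := X) (x := genericPoint X)).symm
  obtain ⟨q, -, -⟩ := Scheme.Pullback.exists_preimage_pullback (f := wh) (g := gη X) p _ hp'
  exact ⟨q⟩

set_option backward.isDefEq.respectTransparency.types false in
/-- Over an irreducible open, the base change to the generic point has at most one point. -/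
lemma subsingleton_bc (W : X.Etale) (N : W.left.Opens) (hN : IsIrreducible (N : Set W.left)) :
    Subsingleton ((EtCoh.bc (gη X)).obj (openSub W N)).left := by
  let wh : W.left ⟶ X := W.hom
  have hWet : Etale wh := W.prop
  let nh : (N : Scheme.{u}) ⟶ X := N.ι ≫ wh
  constructor
  intro q₁ q₂
  change ↥(pullback nh (gη X)) at q₁ q₂
  have key : ∀ q : ↥(pullback nh (gη X)), wh (N.ι (pullback.fst nh (gη X) q)) = genericPoint X := by
    intro q
    have h1 : nh (pullback.fst nh (gη X) q) = (gη X) (pullback.snd nh (gη X) q) := by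
      rw [← Scheme.Hom.comp_apply, ← Scheme.Hom.comp_apply, pullback.condition]
    have h2 : (gη X) (pullback.snd nh (gη X) q) ∈ Set.range (gη X) := ⟨_, rfl⟩
    rw [Scheme.range_fromSpecStalk] at h2
    have h3 : genericPoint X ⤳ (gη X) (pullback.snd nh (gη X) q) :=
      (genericPoint_spec X).specializes (Set.mem_univ _)
    have h4 := (h2.antisymm h3).eq
    change nh (pullback.fst nh (gη X) q) = _
    rw [h1, h4]
  have e1 : N.ι (pullback.fst nh (gη X) q₁) = N.ι (pullback.fst nh (gη X) q₂) :=
    eq_of_over_generic wh N hN _ _ (pullback.fst nh (gη X) q₁).2 (pullback.fst nh (gη X) q₂).2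
      (key q₁) (key q₂)
  have e2 : pullback.fst nh (gη X) q₁ = pullback.fst nh (gη X) q₂ :=
    N.ι.isOpenEmbedding.injective e1
  exact (pullback.fst nh (gη X)).isEmbedding.injective e2

variable (hN : ∀ x : X, IsIntegrallyClosed (X.presheaf.stalk x))

set_option backward.isDefEq.respectTransparency.types false in
lemma mono_ψc_generic : Mono (ψc (gη X) M) := by
  have : ∀ W : (X.Etale)ᵒᵖ, Mono ((ψc (gη X) M).hom.app W) := by
    intro W
    rw [AddCommGrpCat.mono_iff_injective, injective_iff_map_eq_zero]
    intro s hs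
    apply eq_zero_of_germs
    intro Ω _ _ ξ x
    obtain ⟨m, hm⟩ := exists_germ_eq_tsec M ξ W.unop x s
    obtain ⟨W', g, x', hx', hg⟩ :=
      ((Scheme.pointSmallEtale ξ).toPresheafFiber_eq_iff' W.unop x s (tsec M W.unop m)).1 hm
    have hg' : (cst M).obj.map g.op s = tsec M W' m := hg.trans (tsec_map M g m)
    have nat := (ψc (gη X) M).hom.naturality g.op
    have nat2 := congrArg (fun φ => φ.hom s) nat
    have h1 : (ψc (gη X) M).hom.app (op W') ((cst M).obj.map g.op s) = 0 := by
      refine nat2.trans ?_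
      change ((EtCoh.push (gη X)).obj (cst M)).obj.map g.op ((ψc (gη X) M).hom.app W s) = 0
      rw [hs, map_zero]
    rw [hg', ψc_tsec] at h1
    obtain ⟨q⟩ := exists_point_bc W' (x'.left (default : Spec (CommRingCat.of Ω)))
    have hm0 : m = 0 := eq_of_tsec_eq M _ q m 0 (h1.trans (map_zero _).symm)
    rw [hm, hm0, map_zero, map_zero]
  have : Mono (ψc (gη X) M).hom := NatTrans.mono_of_mono_app _
  exact Sheaf.Hom.mono_of_presheaf_mono _ _ _

set_option backward.isDefEq.respectTransparency.types false in
include hN in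
lemma isLocallySurjective_ψc_generic : Sheaf.IsLocallySurjective (ψc (gη X) M) := by
  constructor
  intro W t
  rw [mem_smallEtaleTopology_iff]
  intro w
  let wh : W.left ⟶ X := W.hom
  have hWet : Etale wh := W.prop
  have hdom := (Groth.Agent.Lib.Helper24.ENorm.stalk_of_etale hN wh w).1
  obtain ⟨N, hwN, hNirr⟩ := exists_irreducible_open wh w hdom
  let W' : X.Etale := openSub W N
  let T := (EtCoh.bc (gη X)).obj W'
  haveI : Subsingleton T.left := subsingleton_bc W N hNirr
  obtain ⟨q⟩ := exists_point_bc W' (⟨w, hwN⟩ : (N : Scheme.{u}))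
  obtain ⟨m, hm⟩ := exists_eq_tsec M T q
    ((cst M).obj.map ((EtCoh.bc (gη X)).map (openSubι W N)).op t)
  refine ⟨W', openSubι W N, ⟨w, hwN⟩, ⟨tsec M W' m, ?_⟩, rfl⟩
  rw [ψc_tsec]
  exact hm.symm

include hN in
/-- **The unit `M ⟶ g_* g^* M` is an isomorphism** for the generic point of a normal integral
scheme. -/
theorem isIso_unit_cst_generic :
    IsIso ((EtCoh.pullPushAdj (gη X)).unit.app (cst (U := X) M)) := by
  have hmono := mono_ψc_generic (X := X) M
  have hepi : Epi (ψc (gη X) M) :=
    (Sheaf.isLocallySurjective_iff_epi' _ _).1 (isLocallySurjective_ψc_generic M hN)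
  have hiso : IsIso (ψc (gη X) M) := isIso_of_mono_of_epi _
  have h2 : (EtCoh.pullPushAdj (gη X)).unit.app (cst (U := X) M) =
      ψc (gη X) M ≫ (EtCoh.push (gη X)).map ((EtCore.pullConstIso (gη X)).inv.app M) := by
    unfold ψc
    rw [Category.assoc, ← Functor.map_comp, Iso.hom_inv_id_app]
    erw [CategoryTheory.Functor.map_id]
    exact (Category.comp_id _).symm
  rw [h2]
  infer_instance

end Generic

end

end Groth.Agent.Lib.Helper22.NormalUnit
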