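import Mathlib.AlgebraicGeometry.Morphisms.QuasiFinite
import Mathlib.AlgebraicGeometry.Morphisms.Etale
import Mathlib.AlgebraicGeometry.Morphisms.Flat
import Mathlib.AlgebraicGeometry.Morphisms.UniversallyOpen
import Mathlib.AlgebraicGeometry.Stalk
import Mathlib.AlgebraicGeometry.FunctionField
import Groth.Agent.Lib.Helper14.EtaleLQF

/-!
# Irreducible open neighbourhoods in schemes étale over an integral scheme (helper22)

If `W` is étale over an integral scheme and the local ring of `W` at `w` is a domain, then `w` has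
an irreducible open neighbourhood.
-/

set_option autoImplicit false
set_option linter.style.haveILetI false
universe u
open CategoryTheory AlgebraicGeometry TopologicalSpace

namespace Groth.Agent.Lib.Helper22.NormalUnit

set_option backward.isDefEq.respectTransparency.types false in
theorem exists_irreducible_open {X W : Scheme.{u}} [IsIntegral X] (f : W ⟶ X) [Etale f]
    (w : W) (hdom : IsDomain (W.presheaf.stalk w)) :
    ∃ N : W.Opens, w ∈ N ∧ IsIrreducible (N : Set W) := by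
  classical
  obtain ⟨_, ⟨X₀, hX₀ : IsAffineOpen X₀, rfl⟩, hfw, -⟩ :=
    X.isBasis_affineOpens.exists_subset_of_mem_open (Set.mem_univ (f w)) isOpen_univ
  obtain ⟨_, ⟨N₁, hN₁ : IsAffineOpen N₁, rfl⟩, hwN₁, hN₁X₀⟩ :=
    W.isBasis_affineOpens.exists_subset_of_mem_open (show w ∈ (f ⁻¹ᵁ X₀ : Set W) from hfw)
      (f ⁻¹ᵁ X₀).isOpen
  obtain ⟨N₀, hN₀, hwN₀, hN₀X₀⟩ : ∃ N₀ : W.Opens, IsAffineOpen N₀ ∧ w ∈ N₀ ∧
      (N₀ : Set W) ⊆ (f ⁻¹ᵁ X₀ : Set W) := ⟨N₁, hN₁, hwN₁, hN₁X₀⟩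
  have e : N₀ ≤ f ⁻¹ᵁ X₀ := hN₀X₀
  haveI : Nonempty X₀ := ⟨⟨f w, hfw⟩⟩
  haveI : IsAffine (X₀ : Scheme.{u}) := hX₀
  haveI : IsAffine (N₀ : Scheme.{u}) := hN₀
  let f₀ : (N₀ : Scheme.{u}) ⟶ (X₀ : Scheme.{u}) := f.resLE X₀ N₀ e
  haveI : LocallyQuasiFinite f := Groth.Agent.Lib.Helper14.AS.etale_locallyQuasiFinite f
  haveI : LocallyQuasiFinite f₀ := inferInstanceAs (LocallyQuasiFinite (f.resLE X₀ N₀ e))
  haveI : QuasiCompact f₀ := inferInstance
  haveI : Flat f₀ := inferInstanceAs (Flat (f.resLE X₀ N₀ e))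
  let η₀ : (X₀ : Scheme.{u}) := genericPoint (X₀ : Scheme.{u})
  have hη₀ : ∀ x : (X₀ : Scheme.{u}), η₀ ⤳ x := fun x =>
    (genericPoint_spec (X₀ : Scheme.{u})).specializes (Set.mem_univ x)
  let G : Set (N₀ : Scheme.{u}) := f₀ ⁻¹' {η₀}
  have hGfin : G.Finite := f₀.finite_preimage_singleton η₀
  have hGdis : _root_.IsDiscrete G := f₀.isDiscrete_preimage_singleton η₀
  -- Claim 1
  have c1 : ∀ z : (N₀ : Scheme.{u}), ∃ g ∈ G, g ⤳ z := by
    intro z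
    obtain ⟨g, hgz, hg⟩ := (Flat.generalizingMap f₀) (hη₀ (f₀ z))
    exact ⟨g, hg, hgz⟩
  -- Claim 2
  have c2 : ∀ g ∈ G, ∀ z : (N₀ : Scheme.{u}), z ⤳ g → z = g := by
    intro g hg z hzg
    have h1 : f₀ z ⤳ f₀ g := hzg.map f₀.continuous
    have hg' : f₀ g = η₀ := hg
    rw [hg'] at h1
    have hz : f₀ z = η₀ := (h1.antisymm (hη₀ (f₀ z))).eq
    have hzG : z ∈ G := hz
    haveI : DiscreteTopology G := hGdis.to_subtype
    have h2 : (⟨z, hzG⟩ : G) ⤳ ⟨g, hg⟩ := by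
      refine (Topology.IsInducing.subtypeVal.specializes_iff).1 ?_
      exact hzg
    have h3 : (⟨z, hzG⟩ : G) = ⟨g, hg⟩ := (specializes_iff_eq.1 h2)
    exact congrArg Subtype.val h3
  -- the unique point of `G` specializing to `w`
  let w₀ : (N₀ : Scheme.{u}) := ⟨w, hwN₀⟩
  obtain ⟨g₀, hg₀G, hg₀w⟩ := c1 w₀
  have c3 : ∀ g ∈ G, g ⤳ w₀ → g = g₀ := by
    -- both are the image of the generic point of `Spec O_{W,w}`
    have key : ∀ g ∈ G, g ⤳ w₀ → g.1 = (W.fromSpecStalk w) ⟨⊥, Ideal.isPrime_bot⟩ := by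
      intro g hg hgw
      have h1 : g.1 ⤳ w := by
        have := hgw.map N₀.ι.continuous
        exact this
      have h2 : g.1 ∈ Set.range (W.fromSpecStalk w) := by
        rw [Scheme.range_fromSpecStalk]
        exact h1
      obtain ⟨p, hp⟩ := h2
      let ζ : PrimeSpectrum (W.presheaf.stalk w) := ⟨⊥, Ideal.isPrime_bot⟩
      have h3 : ζ ⤳ p := (PrimeSpectrum.le_iff_specializes ζ p).1 bot_le
      have h4 : (W.fromSpecStalk w) ζ ⤳ g.1 := by
        rw [← hp]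
        exact h3.map (W.fromSpecStalk w).continuous
      have h5 : (W.fromSpecStalk w) ζ ∈ N₀ := N₀.isOpen.stableUnderGeneralization h4 g.2
      let z : (N₀ : Scheme.{u}) := ⟨(W.fromSpecStalk w) ζ, h5⟩
      have h6 : z ⤳ g := by
        refine (N₀.ι.isOpenEmbedding.toIsInducing.specializes_iff).1 ?_
        exact h4
      have h7 := c2 g hg z h6
      exact (congrArg Subtype.val h7).symm
    intro g hg hgw
    apply Subtype.ext
    rw [key g hg hgw, key g₀ hg₀G hg₀w]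
  -- the open neighbourhood
  let B : Set (N₀ : Scheme.{u}) := ⋃ g ∈ G \ {g₀}, closure {g}
  have hB : IsClosed B := hGfin.sdiff.isClosed_biUnion fun g _ => isClosed_closure
  let N' : (N₀ : Scheme.{u}).Opens := ⟨Bᶜ, hB.isOpen_compl⟩
  have hmem : ∀ z : (N₀ : Scheme.{u}), z ∈ N' ↔ ∀ g ∈ G, g ≠ g₀ → ¬ g ⤳ z := by
    intro z
    change z ∉ B ↔ _
    simp only [B, Set.mem_iUnion, Set.mem_sdiff, Set.mem_singleton_iff, not_exists, and_imp]
    constructor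
    · intro h g hg hne hgz
      exact h g hg hne (specializes_iff_mem_closure.1 hgz)
    · intro h g hg hne hzc
      exact h g hg hne (specializes_iff_mem_closure.2 hzc)
  have hw₀ : w₀ ∈ N' := (hmem w₀).2 fun g hg hne hgw => hne (c3 g hg hgw)
  have hg₀N' : g₀ ∈ N' := (hmem g₀).2 fun g hg hne hgg => hne (c2 g₀ hg₀G g hgg)
  have hall : ∀ z ∈ N', g₀ ⤳ z := by
    intro z hz
    obtain ⟨g, hg, hgz⟩ := c1 z
    by_cases hne : g = g₀
    · rwa [hne] at hgz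
    · exact ((hmem z).1 hz g hg hne hgz).elim
  refine ⟨N₀.ι ''ᵁ N', ⟨w₀, hw₀, rfl⟩, ?_⟩
  refine ⟨⟨_, g₀, hg₀N', rfl⟩, ?_⟩
  intro U₁ U₂ hU₁ hU₂ ⟨z₁, hz₁N, hz₁U⟩ ⟨z₂, hz₂N, hz₂U⟩
  obtain ⟨z₁', hz₁', rfl⟩ := hz₁N
  obtain ⟨z₂', hz₂', rfl⟩ := hz₂N
  have h1 : N₀.ι g₀ ⤳ N₀.ι z₁' := (hall z₁' hz₁').map N₀.ι.continuous
  have h2 : N₀.ι g₀ ⤳ N₀.ι z₂' := (hall z₂' hz₂').map N₀.ι.continuous
  exact ⟨N₀.ι g₀, ⟨g₀, hg₀N', rfl⟩, hU₁.stableUnderGeneralization h1 hz₁U,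
    hU₂.stableUnderGeneralization h2 hz₂U⟩

end Groth.Agent.Lib.Helper22.NormalUnit
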