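import Groth.Agent.Lib.Helper22.NormalUnit.Main

/-!
# The loci where a section of a constant sheaf takes a given value (helper22)
-/

set_option autoImplicit false
set_option linter.style.haveILetI false
set_option linter.unusedSectionVars false
universe u
open CategoryTheory CategoryTheory.Limits AlgebraicGeometry Opposite TopologicalSpace

namespace Groth.Agent.Lib.Helper22.NormalUnit

open Groth.Agent.Lib.Helper22.EtStalk Groth.Agent.Lib.Helper22.CechU.Etale
  Groth.Agent.Lib.Helper22.EtLoc Groth.Agent.Lib.Helper22.EtLoc.ConstHom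
  Groth.Agent.Lib.Helper22.EtLoc.Clopen

noncomputable section

variable {X : Scheme.{u}} (M : AddCommGrpCat.{u + 1})

set_option backward.isDefEq.respectTransparency.types false in
/-- A point of the fibre product of two étale `X`-schemes over a third. -/
lemma exists_fibre_point {T T₁ T₂ : X.Etale} (g₁ : T₁ ⟶ T) (g₂ : T₂ ⟶ T) (p₁ : T₁.left)
    (p₂ : T₂.left) (h : g₁.left p₁ = g₂.left p₂) :
    ∃ (Z : X.Etale) (a : Z ⟶ T₁) (b : Z ⟶ T₂) (z : Z.left),
      a ≫ g₁ = b ≫ g₂ ∧ a.left z = p₁ ∧ b.left z = p₂ := by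
  let gl₁ : T₁.left ⟶ T.left := g₁.left
  let gl₂ : T₂.left ⟶ T.left := g₂.left
  obtain ⟨z, hz1, hz2⟩ := Scheme.Pullback.exists_preimage_pullback (f := gl₁) (g := gl₂) p₁ p₂ h
  have e1 : Etale gl₂ := etale_left'' g₂
  have e2 : Etale (T₁.hom : T₁.left ⟶ X) := T₁.prop
  let Z : X.Etale := MorphismProperty.Over.mk ⊤ (pullback.fst gl₁ gl₂ ≫ (T₁.hom : T₁.left ⟶ X))
    (inferInstance : Etale (pullback.fst gl₁ gl₂ ≫ (T₁.hom : T₁.left ⟶ X)))
  let a : Z ⟶ T₁ := MorphismProperty.Over.homMk (pullback.fst gl₁ gl₂) rfl trivial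
  have hw2 : pullback.snd gl₁ gl₂ ≫ (T₂.hom : T₂.left ⟶ X) =
      pullback.fst gl₁ gl₂ ≫ (T₁.hom : T₁.left ⟶ X) := by
    have k1 : gl₁ ≫ (T.hom : T.left ⟶ X) = T₁.hom := Over.w g₁.hom
    have k2 : gl₂ ≫ (T.hom : T.left ⟶ X) = T₂.hom := Over.w g₂.hom
    rw [← k1, ← k2, ← Category.assoc, ← Category.assoc, pullback.condition]
  let b : Z ⟶ T₂ := MorphismProperty.Over.homMk (pullback.snd gl₁ gl₂) hw2 trivial
  have hab : a ≫ g₁ = b ≫ g₂ := by
    apply MorphismProperty.Over.Hom.ext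
    exact pullback.condition
  exact ⟨Z, a, b, z, hab, hz1, hz2⟩

/-- The locus where the section `t` is locally equal to the constant section `m`. -/
def Oset (T : X.Etale) (t : (cst (U := X) M).obj.obj (op T)) (m : M) : Set T.left :=
  {p | ∃ (T' : X.Etale) (g : T' ⟶ T), p ∈ Set.range g.left ∧
    (cst M).obj.map g.op t = tsec M T' m}

lemma isOpen_Oset (T : X.Etale) (t : (cst (U := X) M).obj.obj (op T)) (m : M) :
    IsOpen (Oset M T t m) := by
  rw [isOpen_iff_forall_mem_open]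
  rintro p ⟨T', g, hp, hg⟩
  refine ⟨Set.range g.left, ?_, ?_, hp⟩
  · intro q hq
    exact ⟨T', g, hq, hg⟩
  · have : Etale (g.left : T'.left ⟶ T.left) := etale_left'' g
    exact (g.left : T'.left ⟶ T.left).isOpenMap.isOpen_range

set_option backward.isDefEq.respectTransparency.types false in
lemma exists_mem_Oset (T : X.Etale) (t : (cst (U := X) M).obj.obj (op T)) (p : T.left) :
    ∃ m, p ∈ Oset M T t m := by
  obtain ⟨Ω, _, _, ξ, x, hx⟩ := exists_geomPoint T p
  obtain ⟨m, hm⟩ := exists_germ_eq_tsec M ξ T x t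
  obtain ⟨T', g, x', hx', hg⟩ :=
    ((Scheme.pointSmallEtale ξ).toPresheafFiber_eq_iff' T x t (tsec M T m)).1 hm
  refine ⟨m, T', g, ⟨x'.left (default : Spec (CommRingCat.of Ω)), ?_⟩, ?_⟩
  · rw [← hx, ← hx']
    rfl
  · exact hg.trans (tsec_map M g m)

set_option backward.isDefEq.respectTransparency.types false in
lemma eq_of_mem_Oset (T : X.Etale) (t : (cst (U := X) M).obj.obj (op T)) (m m' : M) (p : T.left)
    (h : p ∈ Oset M T t m) (h' : p ∈ Oset M T t m') : m = m' := by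
  obtain ⟨T₁, g₁, ⟨p₁, hp₁⟩, h₁⟩ := h
  obtain ⟨T₂, g₂, ⟨p₂, hp₂⟩, h₂⟩ := h'
  obtain ⟨Z, a, b, z, hab, -, -⟩ := exists_fibre_point g₁ g₂ p₁ p₂ (hp₁.trans hp₂.symm)
  have k : tsec M Z m = tsec M Z m' := by
    rw [← tsec_map M a m, ← h₁, ← tsec_map M b m', ← h₂, ← Functor.map_comp_apply,
      ← Functor.map_comp_apply, ← op_comp, ← op_comp, hab]
  exact eq_of_tsec_eq M Z z m m' k

set_option backward.isDefEq.respectTransparency.types false in
lemma mem_Oset_map {T'' T : X.Etale} (h : T'' ⟶ T) (t : (cst (U := X) M).obj.obj (op T)) (m : M)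
    (y : T''.left) (hy : h.left y ∈ Oset M T t m) :
    y ∈ Oset M T'' ((cst M).obj.map h.op t) m := by
  obtain ⟨T', g, ⟨p', hp'⟩, hg⟩ := hy
  obtain ⟨Z, a, b, z, hab, hz1, -⟩ := exists_fibre_point h g y p' hp'.symm
  refine ⟨Z, a, ⟨z, hz1⟩, ?_⟩
  rw [← Functor.map_comp_apply, ← op_comp, hab, op_comp, Functor.map_comp_apply, hg, tsec_map]

lemma eq_tsec_of_forall_mem_Oset (T : X.Etale) (t : (cst (U := X) M).obj.obj (op T)) (m : M)
    (h : ∀ p : T.left, p ∈ Oset M T t m) : t = tsec M T m := by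
  apply eq_of_locally_eq
  intro y
  obtain ⟨T', g, hy', hg⟩ := h y
  exact ⟨T', g, hy', hg.trans (tsec_map M g m).symm⟩

end

end Groth.Agent.Lib.Helper22.NormalUnit
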