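import Mathlib.AlgebraicGeometry.Morphisms.QuasiCompact
import Mathlib.AlgebraicGeometry.Stalk
import Mathlib.RingTheory.Ideal.MinimalPrime.Localization
import Mathlib.RingTheory.Spectrum.Prime.Topology

/-!
# Closure of a quasi-compact open consists of specializations (helper22)
-/

set_option autoImplicit false
universe u
open CategoryTheory CategoryTheory.Limits AlgebraicGeometry Opposite TopologicalSpace

namespace Groth.Agent.Lib.Helper22.NormalUnit

/-- A point in the closure of the range of `Spec φ` is a specialization of a point in the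
range. -/
lemma exists_specializes_of_mem_closure_range_comap {A R : Type*} [CommRing A] [CommRing R]
    (φ : A →+* R) (x : PrimeSpectrum A)
    (hx : x ∈ closure (Set.range (PrimeSpectrum.comap φ))) :
    ∃ y : PrimeSpectrum R, PrimeSpectrum.comap φ y ⤳ x := by
  rw [PrimeSpectrum.closure_range_comap, PrimeSpectrum.mem_zeroLocus] at hx
  obtain ⟨p, hp, hpx⟩ := Ideal.exists_minimalPrimes_le (I := RingHom.ker φ) (J := x.asIdeal) hx
  have hp2 : p ∈ ((⊥ : Ideal R).comap φ).minimalPrimes := by
    rwa [← RingHom.ker_eq_comap_bot]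
  obtain ⟨p', hp', -, hcomap⟩ := Ideal.exists_comap_eq_of_mem_minimalPrimes φ p hp2
  refine ⟨⟨p', hp'⟩, ?_⟩
  rw [← PrimeSpectrum.le_iff_specializes]
  change (PrimeSpectrum.comap φ ⟨p', hp'⟩).asIdeal ≤ x.asIdeal
  rw [PrimeSpectrum.comap_asIdeal]
  change Ideal.comap φ p' ≤ _
  rw [hcomap]
  exact hpx

/-- A point of an affine open in the closure of a compact open subset is a specialization of a
point of that subset. -/
theorem exists_specializes_of_mem_closure {W : Scheme.{u}} (B V : W.Opens) (hV : IsAffineOpen V)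
    (hB : IsCompact (B : Set W)) (hBV : B ≤ V) (w : W) (hwV : w ∈ V)
    (hw : w ∈ closure (B : Set W)) : ∃ b ∈ B, b ⤳ w := by
  obtain ⟨R, f, hf⟩ := isCompact_iff_exists.1 hB
  have hrange : Set.range f ⊆ Set.range hV.fromSpec := by
    rw [hf, hV.range_fromSpec]
    exact hBV
  let l : Spec R ⟶ Spec Γ(W, V) := IsOpenImmersion.lift hV.fromSpec f hrange
  have hl : l ≫ hV.fromSpec = f := IsOpenImmersion.lift_fac _ _ _
  have hwV' : w ∈ Set.range hV.fromSpec := by rw [hV.range_fromSpec]; exact hwV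
  obtain ⟨wA, hwA⟩ := hwV'
  have himg : hV.fromSpec '' (Set.range l) = (B : Set W) := by
    rw [← hf, ← hl, ← Set.range_comp]
    rfl
  have hcl : wA ∈ closure (Set.range l) := by
    rw [hV.fromSpec.isOpenEmbedding.toIsInducing.closure_eq_preimage_closure_image, himg]
    change hV.fromSpec wA ∈ closure (B : Set W)
    rw [hwA]
    exact hw
  obtain ⟨φ, hφ⟩ : ∃ φ : Γ(W, V) ⟶ R, Spec.map φ = l := ⟨Spec.preimage l, Spec.map_preimage l⟩
  have hcl2 : wA ∈ closure (Set.range (PrimeSpectrum.comap φ.hom)) := by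
    rw [← hφ] at hcl
    exact hcl
  obtain ⟨y, hy⟩ := exists_specializes_of_mem_closure_range_comap φ.hom wA hcl2
  have hy2 : l y ⤳ wA := by
    rw [← hφ]
    exact hy
  refine ⟨f y, ?_, ?_⟩
  · change f y ∈ (B : Set W)
    rw [← hf]
    exact ⟨y, rfl⟩
  · have := hy2.map hV.fromSpec.continuous
    rw [hwA] at this
    rw [← hl]
    exact this

/-- Generizations of a point with integral local ring are directed. -/
theorem exists_common_generization {W : Scheme.{u}} (w : W) (hdom : IsDomain (W.presheaf.stalk w))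
    (b b' : W) (hb : b ⤳ w) (hb' : b' ⤳ w) : ∃ ν : W, ν ⤳ b ∧ ν ⤳ b' := by
  have h1 : b ∈ Set.range (W.fromSpecStalk w) := by rw [Scheme.range_fromSpecStalk]; exact hb
  have h2 : b' ∈ Set.range (W.fromSpecStalk w) := by rw [Scheme.range_fromSpecStalk]; exact hb'
  obtain ⟨b₀, rfl⟩ := h1
  obtain ⟨b₀', rfl⟩ := h2
  let ν₀ : PrimeSpectrum (W.presheaf.stalk w) := ⟨⊥, Ideal.isPrime_bot⟩
  have e1 : ν₀ ⤳ b₀ := by
    rw [← PrimeSpectrum.le_iff_specializes]
    exact bot_le (a := b₀.asIdeal)
  have e2 : ν₀ ⤳ b₀' := by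
    rw [← PrimeSpectrum.le_iff_specializes]
    exact bot_le (a := b₀'.asIdeal)
  exact ⟨W.fromSpecStalk w ν₀, e1.map (W.fromSpecStalk w).continuous,
    e2.map (W.fromSpecStalk w).continuous⟩

end Groth.Agent.Lib.Helper22.NormalUnit
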