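import Groth.Agent.Lib.Helper22.NormalUnit.Osets
import Groth.Agent.Lib.Helper22.NormalUnit.Directed

/-!
# The unit `M_X ⟶ j_* j^* M_X` for a quasi-compact dense open of a normal scheme (helper22)
-/

set_option autoImplicit false
set_option linter.style.haveILetI false
set_option linter.unusedSectionVars false
universe u
open CategoryTheory CategoryTheory.Limits AlgebraicGeometry Opposite TopologicalSpace

namespace Groth.Agent.Lib.Helper22.NormalUnit.QcDense

open Groth.Agent.Lib.Helper22.EtStalk Groth.Agent.Lib.Helper22.CechU.Etale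
  Groth.Agent.Lib.Helper22.EtLoc Groth.Agent.Lib.Helper22.EtLoc.ConstHom
  Groth.Agent.Lib.Helper22.EtLoc.Clopen Groth.Agent.Lib.Helper22.NormalUnit

noncomputable section

variable {X U : Scheme.{u}} (M : AddCommGrpCat.{u + 1}) (j : U ⟶ X) [IsOpenImmersion j]

/-- The preimage of `U` in an étale `X`-scheme, as an étale `X`-scheme. -/
abbrev overJ (W : X.Etale) : X.Etale := (pj j).obj ((EtCoh.bc j).obj W)

/-- The inclusion of the preimage of `U`. -/
abbrev cJ (W : X.Etale) : overJ j W ⟶ W := (pjAdj j).counit.app W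

set_option backward.isDefEq.respectTransparency.types false in
lemma cJ_left (W : X.Etale) : (cJ j W).left = pullback.fst W.hom j := by
  change ((pjAdj j).counit.app W).left = _
  simp [pjAdj]

lemma cJ_naturality {W' W : X.Etale} (g : W' ⟶ W) :
    (pj j).map ((EtCoh.bc j).map g) ≫ cJ j W = cJ j W' ≫ g :=
  (pjAdj j).counit.naturality g

instance isOpenImmersion_cJ (W : X.Etale) : IsOpenImmersion (cJ j W).left := by
  rw [cJ_left]
  let wh : W.left ⟶ X := W.hom
  exact inferInstanceAs (IsOpenImmersion (pullback.fst wh j))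

lemma range_cJ (W : X.Etale) :
    Set.range (cJ j W).left = (W.hom : W.left ⟶ X) ⁻¹' Set.range j := by
  rw [cJ_left]
  exact Scheme.Pullback.range_fst _ _

variable (hj : Dense (Set.range j))

set_option backward.isDefEq.respectTransparency.types false in
include hj in
/-- Density: a nonempty open of an étale `X`-scheme has a point over `U`. -/
lemma exists_point_overJ (W : X.Etale) (N : W.left.Opens) (w : W.left)
    (hw : w ∈ N) : ∃ q : (overJ j W).left, (cJ j W).left q ∈ N := by
  let wh : W.left ⟶ X := W.hom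
  have hWet : Etale wh := W.prop
  have hopen : IsOpen (wh '' (N : Set W.left)) := wh.isOpenMap _ N.isOpen
  obtain ⟨x, ⟨w', hw'N, hw'⟩, hxU⟩ := hj.inter_open_nonempty _ hopen ⟨_, ⟨w, hw, rfl⟩⟩
  have hmem : w' ∈ Set.range (cJ j W).left := by
    rw [range_cJ]
    change wh w' ∈ Set.range j
    rw [hw']
    exact hxU
  obtain ⟨q, hq⟩ := hmem
  exact ⟨q, by rw [hq]; exact hw'N⟩

set_option backward.isDefEq.respectTransparency.types false in
include hj in
/-- Injectivity of restriction to the preimage of `U`. -/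
theorem res_eq_zero (W : X.Etale)
    (s : (cst (U := X) M).obj.obj (op W)) (hs : (cst M).obj.map (cJ j W).op s = 0) : s = 0 := by
  apply eq_zero_of_germs
  intro Ω _ _ ξ x
  obtain ⟨m, hm⟩ := exists_germ_eq_tsec M ξ W x s
  obtain ⟨W', g, x', hx', hg⟩ :=
    ((Scheme.pointSmallEtale ξ).toPresheafFiber_eq_iff' W x s (tsec M W m)).1 hm
  have h1 : (cst M).obj.map (cJ j W').op ((cst M).obj.map g.op s) = 0 := by
    rw [← Functor.map_comp_apply, ← op_comp, ← cJ_naturality, op_comp, Functor.map_comp_apply, hs,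
      map_zero]
  have hg' : (cst M).obj.map g.op s = tsec M W' m := hg.trans (tsec_map M g m)
  rw [hg', tsec_map] at h1
  obtain ⟨q, -⟩ := exists_point_overJ j hj W' ⊤ (x'.left (default : Spec (CommRingCat.of Ω)))
    trivial
  have hm0 : m = 0 := eq_of_tsec_eq M (overJ j W') q m 0 (h1.trans (map_zero _).symm)
  rw [hm, hm0, map_zero, map_zero]

variable (hX : ∀ x : X, IsDomain (X.presheaf.stalk x) ∧ IsIntegrallyClosed (X.presheaf.stalk x))
  [QuasiCompact j]

set_option backward.isDefEq.respectTransparency.types false in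
include hj hX in
/-- Local surjectivity of restriction to the preimage of `U`. -/
theorem exists_local_ext (W : X.Etale)
    (t : (cst (U := X) M).obj.obj (op (overJ j W))) (w : W.left) :
    ∃ (N : W.left.Opens), w ∈ N ∧ ∃ s' : (cst (U := X) M).obj.obj (op (openSub W N)),
      (cst M).obj.map (cJ j (openSub W N)).op s' =
        (cst M).obj.map ((pj j).map ((EtCoh.bc j).map (openSubι W N))).op t := by
  classical
  let wh : W.left ⟶ X := W.hom
  have hWet : Etale wh := W.prop
  let T : X.Etale := overJ j W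
  let c : T.left ⟶ W.left := (cJ j W).left
  have hcopen : IsOpenImmersion c := isOpenImmersion_cJ j W
  have hcqc : QuasiCompact c := by
    change QuasiCompact (cJ j W).left
    rw [cJ_left]
    exact inferInstanceAs (QuasiCompact (pullback.fst wh j))
  -- affine open nbhd
  obtain ⟨_, ⟨V, hV : IsAffineOpen V, rfl⟩, hwV, -⟩ :=
    W.left.isBasis_affineOpens.exists_subset_of_mem_open (Set.mem_univ w) isOpen_univ
  -- D ∩ V
  let D : W.left.Opens := c.opensRange
  let DV : W.left.Opens := D ⊓ V
  have hDVc : IsCompact (DV : Set W.left) := by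
    have h1 : IsCompact (c ⁻¹' (V : Set W.left)) :=
      QuasiCompact.isCompact_preimage (f := c) _ V.isOpen hV.isCompact
    have h2 := h1.image c.continuous
    rw [Set.image_preimage_eq_inter_range] at h2
    rw [show (DV : Set W.left) = (V : Set W.left) ∩ Set.range c from Set.inter_comm _ _]
    exact h2
  have hwcl : w ∈ closure (DV : Set W.left) := by
    rw [mem_closure_iff]
    intro O hO hwO
    let N' : W.left.Opens := ⟨O, hO⟩ ⊓ V
    obtain ⟨q, hq⟩ := exists_point_overJ j hj W N' w ⟨hwO, hwV⟩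
    exact ⟨c q, hq.1, ⟨q, rfl⟩, hq.2⟩
  obtain ⟨u, hu, huw⟩ := exists_specializes_of_mem_closure DV V hV hDVc inf_le_right w hwV hwcl
  obtain ⟨u₀, hu₀⟩ : u ∈ Set.range c := hu.1
  obtain ⟨m₀, hm₀⟩ := exists_mem_Oset M T t u₀
  -- the bad set
  let G : Set W.left := c '' (Oset M T t m₀)
  have hGopen : IsOpen G := c.isOpenEmbedding.isOpenMap _ (isOpen_Oset M T t m₀)
  let B'set : Set W.left := (DV : Set W.left) \ G
  have hB'c : IsCompact B'set := hDVc.diff hGopen
  have hB'eq : B'set = (c '' (⋃ m ∈ {m | m ≠ m₀}, Oset M T t m)) ∩ V := by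
    ext p
    constructor
    · rintro ⟨⟨⟨q, rfl⟩, hpV⟩, hpG⟩
      obtain ⟨m, hm⟩ := exists_mem_Oset M T t q
      refine ⟨⟨q, ?_, rfl⟩, hpV⟩
      simp only [Set.mem_iUnion, exists_prop]
      refine ⟨m, ?_, hm⟩
      rintro rfl
      exact hpG ⟨q, hm, rfl⟩
    · rintro ⟨⟨q, hq, rfl⟩, hpV⟩
      simp only [Set.mem_iUnion, exists_prop] at hq
      obtain ⟨m, hne, hm⟩ := hq
      refine ⟨⟨⟨q, rfl⟩, hpV⟩, ?_⟩
      rintro ⟨q', hq', hqq'⟩
      have : q' = q := c.isOpenEmbedding.injective hqq'
      subst this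
      exact hne (eq_of_mem_Oset M T t m m₀ q' hm hq')
  have hB'open : IsOpen B'set := by
    rw [hB'eq]
    exact (c.isOpenEmbedding.isOpenMap _
      (isOpen_biUnion fun m _ => isOpen_Oset M T t m)).inter V.isOpen
  let B' : W.left.Opens := ⟨B'set, hB'open⟩
  have hwB' : w ∉ closure B'set := by
    intro hcl
    obtain ⟨b, hb, hbw⟩ := exists_specializes_of_mem_closure B' V hV hB'c
      (fun p hp => hp.1.2) w hwV hcl
    obtain ⟨ν, hνu, hνb⟩ := exists_common_generization_of_etale hX wh w u b huw hbw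
    have h1 : ν ∈ G := hνu.mem_open hGopen ⟨u₀, hm₀, hu₀⟩
    have h2 : ν ∈ B'set := hνb.mem_open hB'open hb
    exact h2.2 h1
  let N : W.left.Opens := V ⊓ ⟨(closure B'set)ᶜ, isClosed_closure.isOpen_compl⟩
  have hwN : w ∈ N := ⟨hwV, hwB'⟩
  refine ⟨N, hwN, tsec M (openSub W N) m₀, ?_⟩
  rw [tsec_map]
  symm
  let h : overJ j (openSub W N) ⟶ T := (pj j).map ((EtCoh.bc j).map (openSubι W N))
  apply eq_tsec_of_forall_mem_Oset
  intro y
  apply mem_Oset_map
  have hnat : h ≫ cJ j W = cJ j (openSub W N) ≫ openSubι W N := cJ_naturality j (openSubι W N)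
  have hpt : c (h.left y) = N.ι ((cJ j (openSub W N)).left y) := by
    have := congrArg (fun φ => (φ.left : _ ⟶ W.left) y) hnat
    exact this
  have hN' : c (h.left y) ∈ N := by rw [hpt]; exact ((cJ j (openSub W N)).left y).2
  have hDV' : c (h.left y) ∈ (DV : Set W.left) := ⟨⟨_, rfl⟩, hN'.1⟩
  by_contra hcon
  have : c (h.left y) ∈ B'set := by
    refine ⟨hDV', ?_⟩
    rintro ⟨q', hq', hqq'⟩
    have : q' = h.left y := c.isOpenEmbedding.injective hqq'
    subst this
    exact hcon hq'
  exact hN'.2 (subset_closure this)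

set_option backward.isDefEq.respectTransparency.types false in
include hj hX in
/-- **The unit `M ⟶ j_* j^* M` is an isomorphism** for a quasi-compact dense open immersion into
a normal scheme. -/
theorem isIso_unit_cst :
    IsIso ((EtCoh.pullPushAdj j).unit.app (cst (U := X) M)) := by
  let ψ : cst (U := X) M ⟶ (EtCoh.push j).obj ((res j).obj (cst M)) :=
    (resPushAdj j).unit.app (cst M)
  have hψ : ∀ (W : X.Etale) (s : (cst (U := X) M).obj.obj (op W)),
      ψ.hom.app (op W) s = (cst M).obj.map (cJ j W).op s := fun W s => rfl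
  have hmono : Mono ψ := by
    have : ∀ W : (X.Etale)ᵒᵖ, Mono (ψ.hom.app W) := by
      intro W
      rw [AddCommGrpCat.mono_iff_injective, injective_iff_map_eq_zero]
      intro s hs
      exact res_eq_zero M j hj W.unop s hs
    have : Mono ψ.hom := NatTrans.mono_of_mono_app _
    exact Sheaf.Hom.mono_of_presheaf_mono _ _ ψ
  have hls : Sheaf.IsLocallySurjective ψ := by
    constructor
    intro W t
    rw [mem_smallEtaleTopology_iff]
    intro w
    obtain ⟨N, hwN, s', hs'⟩ := exists_local_ext M j hj hX W t w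
    exact ⟨openSub W N, openSubι W N, ⟨w, hwN⟩, ⟨s', hs'⟩, rfl⟩
  have hepi : Epi ψ := (Sheaf.isLocallySurjective_iff_epi' _ ψ).1 hls
  have hiso : IsIso ψ := isIso_of_mono_of_epi ψ
  have h := Adjunction.unit_leftAdjointUniq_hom_app (EtCoh.pullPushAdj j) (resPushAdj j)
    (cst (U := X) M)
  have h2 : (EtCoh.pullPushAdj j).unit.app (cst (U := X) M) =
      (resPushAdj j).unit.app (cst M) ≫
        (EtCoh.push j).map ((pullIsoRes j).inv.app (cst M)) := by
    rw [← h, Category.assoc, ← Functor.map_comp]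
    have : (Adjunction.leftAdjointUniq (EtCoh.pullPushAdj j) (resPushAdj j)).hom.app (cst M) ≫
        (pullIsoRes j).inv.app (cst M) = 𝟙 _ := (pullIsoRes j).hom_inv_id_app (cst M)
    rw [this, CategoryTheory.Functor.map_id]
    exact (Category.comp_id _).symm
  rw [h2]
  have : IsIso ((resPushAdj j).unit.app (cst (U := X) M)) := hiso
  infer_instance

end

end Groth.Agent.Lib.Helper22.NormalUnit.QcDense
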